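import Cfsg.Agent.H436.Krein

/-!
# The symmetric cube (helper797)

* `char_cuRep` : the character `(χ(g)^3 + 3 χ(g) χ(g²) + 2 χ(g³)) / 6` of the symmetric cube;
* `isCharacter_symCube`;
* `sum_ne_zero_of_krein_cube` : if `∑ u, k u * ω₁ u ^ 3 * ω u ≠ 0` then `χ` is a constituent of the symmetric cube of
  `χ₁` (the cube version of `H436.Krein.sum_ne_zero_of_krein`).
-/

set_option autoImplicit false

namespace Cfsg.Agent.H797.BR

open Cfsg Cfsg.Agent.Characters.Core Module Cfsg.Agent.PermChar.SymAlt Cfsg.Agent.PermChar.TensorSquare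
open scoped BigOperators TensorProduct

universe u v

section cube

variable {V : Type*} [AddCommGroup V] [Module ℂ V]

/-- the third tensor power -/
abbrev T3 (V : Type*) [AddCommGroup V] [Module ℂ V] : Type _ := V ⊗[ℂ] (V ⊗[ℂ] V)

theorem ext3 {f g : Module.End ℂ (T3 V)} (h : ∀ x y z : V, f (x ⊗ₜ[ℂ] (y ⊗ₜ[ℂ] z)) = g (x ⊗ₜ[ℂ] (y ⊗ₜ[ℂ] z))) :
    f = g := by
  apply TensorProduct.ext
  apply LinearMap.ext
  intro x
  apply TensorProduct.ext
  apply LinearMap.ext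
  intro y
  apply LinearMap.ext
  intro z
  exact h x y z

/-- `f ⊗ f ⊗ f` -/
noncomputable def m3 (f : Module.End ℂ V) : Module.End ℂ (T3 V) := TensorProduct.map f (TensorProduct.map f f)

theorem m3_tmul (f : Module.End ℂ V) (x y z : V) : m3 f (x ⊗ₜ (y ⊗ₜ z)) = f x ⊗ₜ (f y ⊗ₜ f z) := rfl

theorem m3_one : m3 (1 : Module.End ℂ V) = 1 := ext3 fun _ _ _ => rfl

theorem m3_mul (f g : Module.End ℂ V) : m3 (f * g) = m3 f * m3 g := ext3 fun _ _ _ => rfl

/-- the transposition of the last two factors -/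
noncomputable def s3 (V : Type*) [AddCommGroup V] [Module ℂ V] : Module.End ℂ (T3 V) :=
  TensorProduct.map 1 (swap V)

theorem s3_tmul (x y z : V) : s3 V (x ⊗ₜ (y ⊗ₜ z)) = x ⊗ₜ (z ⊗ₜ y) := rfl

/-- the 3-cycle -/
noncomputable def c3 (V : Type*) [AddCommGroup V] [Module ℂ V] : Module.End ℂ (T3 V) :=
  (TensorProduct.assoc ℂ V V V).toLinearMap ∘ₗ (TensorProduct.comm ℂ V (V ⊗[ℂ] V)).toLinearMap

theorem c3_tmul (x y z : V) : c3 V (x ⊗ₜ (y ⊗ₜ z)) = y ⊗ₜ (z ⊗ₜ x) := rfl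

theorem s_s : s3 V * s3 V = 1 := ext3 fun _ _ _ => rfl

theorem c_c_c : c3 V * c3 V * c3 V = 1 := ext3 fun _ _ _ => rfl

theorem c_s : c3 V * s3 V = s3 V * (c3 V * c3 V) := ext3 fun _ _ _ => rfl

theorem m_s (f : Module.End ℂ V) : m3 f * s3 V = s3 V * m3 f := ext3 fun _ _ _ => rfl

theorem m_c (f : Module.End ℂ V) : m3 f * c3 V = c3 V * m3 f := ext3 fun _ _ _ => rfl

/-- the projection on the symmetric tensors -/
noncomputable def pj (V : Type*) [AddCommGroup V] [Module ℂ V] : Module.End ℂ (T3 V) :=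
  (6 : ℂ)⁻¹ • ((1 + s3 V) * (1 + c3 V + c3 V * c3 V))

theorem c_pj : (1 + c3 V + c3 V * c3 V) * s3 V = s3 V * (1 + c3 V + c3 V * c3 V) := by
  have h1 : c3 V * c3 V * s3 V = s3 V * c3 V := by
    rw [mul_assoc, c_s, ← mul_assoc, c_s, mul_assoc, ← mul_assoc (c3 V * c3 V), c_c_c, one_mul]
  rw [add_mul, add_mul, one_mul, c_s, h1, mul_add, mul_add, mul_one]
  abel

theorem cc3 : (1 + c3 V + c3 V * c3 V) * (1 + c3 V + c3 V * c3 V) = (3 : ℂ) • (1 + c3 V + c3 V * c3 V) := by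
  have h1 := c_c_c (V := V)
  have h2 : c3 V * (c3 V * c3 V) = 1 := by rw [← mul_assoc, h1]
  have h3 : c3 V * c3 V * (c3 V * c3 V) = c3 V := by rw [← mul_assoc, h1, one_mul]
  simp only [add_mul, mul_add, one_mul, mul_one, h1, h2, h3]
  module

theorem ss2 : (1 + s3 V) * (1 + s3 V) = (2 : ℂ) • (1 + s3 V) := by
  rw [add_mul, mul_add, mul_add, s_s, one_mul, one_mul, mul_one]
  module

theorem pj_mul_pj : pj V * pj V = pj V := by
  have h1 : (1 + c3 V + c3 V * c3 V) * (1 + s3 V) = (1 + s3 V) * (1 + c3 V + c3 V * c3 V) := by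
    rw [mul_add, mul_one, c_pj, add_mul (1 : Module.End ℂ (T3 V)) (s3 V), one_mul]
  rw [pj, smul_mul_smul_comm, mul_assoc, ← mul_assoc (1 + c3 V + c3 V * c3 V), h1, mul_assoc (1 + s3 V), cc3,
    ← mul_assoc, ss2, smul_mul_smul_comm, smul_smul]
  norm_num

theorem m_pj (f : Module.End ℂ V) : m3 f * pj V = pj V * m3 f := by
  have h1 : m3 f * (1 + s3 V) = (1 + s3 V) * m3 f := by rw [mul_add, mul_one, m_s, add_mul, one_mul]
  have h2 : m3 f * (1 + c3 V + c3 V * c3 V) = (1 + c3 V + c3 V * c3 V) * m3 f := by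
    rw [mul_add, mul_add, mul_one, m_c, ← mul_assoc, m_c, mul_assoc, m_c, add_mul, add_mul, one_mul, mul_assoc]
  rw [pj, mul_smul_comm, smul_mul_assoc, ← mul_assoc, h1, mul_assoc, h2, mul_assoc]

/-! ### Traces -/

variable [FiniteDimensional ℂ V]

theorem trace_m (f : Module.End ℂ V) : LinearMap.trace ℂ _ (m3 f) = LinearMap.trace ℂ _ f ^ 3 := by
  rw [m3, LinearMap.trace_tensorProduct', LinearMap.trace_tensorProduct']
  ring

theorem trace_m_s (f : Module.End ℂ V) :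
    LinearMap.trace ℂ _ (m3 f * s3 V) = LinearMap.trace ℂ _ f * LinearMap.trace ℂ _ (f * f) := by
  have h1 : m3 f * s3 V = TensorProduct.map f (TensorProduct.map f f * swap V) := ext3 fun _ _ _ => rfl
  rw [h1, LinearMap.trace_tensorProduct', trace_map_swap]

theorem trace_m_c (f : Module.End ℂ V) :
    LinearMap.trace ℂ _ (m3 f * c3 V) = LinearMap.trace ℂ _ (f * f * f) := by
  classical
  let b := Module.finBasis ℂ V
  rw [LinearMap.trace_eq_matrix_trace ℂ (b.tensorProduct (b.tensorProduct b)),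
    LinearMap.trace_eq_matrix_trace ℂ b]
  have h0 : LinearMap.toMatrix b b (f * f * f) =
      LinearMap.toMatrix b b f * (LinearMap.toMatrix b b f * LinearMap.toMatrix b b f) := by
    rw [mul_assoc, LinearMap.toMatrix_mul, LinearMap.toMatrix_mul]
  rw [h0]
  simp only [Matrix.trace, Matrix.diag_apply, Fintype.sum_prod_type]
  refine Finset.sum_congr rfl fun i _ => ?_
  rw [Matrix.mul_apply]
  refine Finset.sum_congr rfl fun j _ => ?_
  rw [Matrix.mul_apply, Finset.mul_sum]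
  refine Finset.sum_congr rfl fun k _ => ?_
  rw [LinearMap.toMatrix_apply, LinearMap.toMatrix_apply, LinearMap.toMatrix_apply, LinearMap.toMatrix_apply,
    Module.Basis.tensorProduct_apply, Module.Basis.tensorProduct_apply]
  show ((b.tensorProduct (b.tensorProduct b)).repr (f (b j) ⊗ₜ (f (b k) ⊗ₜ f (b i)))) (i, (j, k)) = _
  rw [Module.Basis.tensorProduct_repr_tmul_apply, Module.Basis.tensorProduct_repr_tmul_apply, smul_eq_mul, smul_eq_mul]
  ring

theorem trace_m_cc (f : Module.End ℂ V) :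
    LinearMap.trace ℂ _ (m3 f * (c3 V * c3 V)) = LinearMap.trace ℂ _ (f * f * f) := by
  have h1 : m3 f * (c3 V * c3 V) = s3 V * (m3 f * c3 V * s3 V) := ext3 fun _ _ _ => rfl
  rw [h1, LinearMap.trace_mul_comm, mul_assoc, s_s, mul_one, trace_m_c]

theorem trace_m_sc (f : Module.End ℂ V) :
    LinearMap.trace ℂ _ (m3 f * (s3 V * c3 V)) = LinearMap.trace ℂ _ f * LinearMap.trace ℂ _ (f * f) := by
  have h1 : m3 f * (s3 V * c3 V) = c3 V * (m3 f * s3 V * (c3 V * c3 V)) := ext3 fun _ _ _ => rfl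
  have h2 : m3 f * s3 V * (c3 V * c3 V) * c3 V = m3 f * s3 V := ext3 fun _ _ _ => rfl
  rw [h1, LinearMap.trace_mul_comm, h2, trace_m_s]

theorem trace_m_scc (f : Module.End ℂ V) :
    LinearMap.trace ℂ _ (m3 f * (s3 V * (c3 V * c3 V))) =
      LinearMap.trace ℂ _ f * LinearMap.trace ℂ _ (f * f) := by
  have h1 : m3 f * (s3 V * (c3 V * c3 V)) = c3 V * c3 V * (m3 f * s3 V * c3 V) := ext3 fun _ _ _ => rfl
  have h2 : m3 f * s3 V * c3 V * (c3 V * c3 V) = m3 f * s3 V := ext3 fun _ _ _ => rfl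
  rw [h1, LinearMap.trace_mul_comm, h2, trace_m_s]

theorem trace_m_pj (f : Module.End ℂ V) : LinearMap.trace ℂ _ (m3 f * pj V) =
    (LinearMap.trace ℂ _ f ^ 3 + 3 * LinearMap.trace ℂ _ f * LinearMap.trace ℂ _ (f * f) +
      2 * LinearMap.trace ℂ _ (f * f * f)) / 6 := by
  have h1 : m3 f * pj V = (6 : ℂ)⁻¹ • (m3 f + m3 f * c3 V + m3 f * (c3 V * c3 V) + m3 f * s3 V +
      m3 f * (s3 V * c3 V) + m3 f * (s3 V * (c3 V * c3 V))) := by
    rw [pj, mul_smul_comm]
    congr 1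
    simp only [add_mul, mul_add, one_mul, mul_one]
    abel
  rw [h1, map_smul, map_add, map_add, map_add, map_add, map_add, trace_m, trace_m_c, trace_m_cc, trace_m_s,
    trace_m_sc, trace_m_scc, smul_eq_mul]
  ring

end cube

/-! ### The representation -/

section rep

variable {G : Type u} [Group G] {V : Type*} [AddCommGroup V] [Module ℂ V]

/-- the symmetric tensors -/
noncomputable abbrev SymC (V : Type*) [AddCommGroup V] [Module ℂ V] : Submodule ℂ (T3 V) := LinearMap.range (pj V)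

theorem pj_symC {x : T3 V} (hx : x ∈ SymC V) : pj V x = x := by
  obtain ⟨y, rfl⟩ := hx
  rw [← Module.End.mul_apply, pj_mul_pj]

theorem map_symC (ρ : Representation ℂ G V) (g : G) {w : T3 V} (hw : w ∈ SymC V) : m3 (ρ g) w ∈ SymC V := by
  obtain ⟨x, rfl⟩ := hw
  refine ⟨m3 (ρ g) x, ?_⟩
  rw [← Module.End.mul_apply, ← m_pj, Module.End.mul_apply]

/-- the symmetric cube of a representation -/
noncomputable def cuRep (ρ : Representation ℂ G V) : Representation ℂ G (SymC V) where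
  toFun g := (m3 (ρ g)).restrict fun _ hw => map_symC ρ g hw
  map_one' := by
    apply LinearMap.ext
    intro w
    apply Subtype.ext
    show m3 (ρ 1) (w : T3 V) = w
    rw [map_one, m3_one]
    rfl
  map_mul' g h := by
    apply LinearMap.ext
    intro w
    apply Subtype.ext
    show m3 (ρ (g * h)) (w : T3 V) = m3 (ρ g) (m3 (ρ h) (w : T3 V))
    rw [map_mul, m3_mul]
    rfl

theorem cuRep_val (ρ : Representation ℂ G V) (g : G) (w : SymC V) :
    ((cuRep ρ g w : SymC V) : T3 V) = m3 (ρ g) (w : T3 V) := rfl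

theorem char_cuRep [FiniteDimensional ℂ V] (ρ : Representation ℂ G V) (g : G) :
    (cuRep ρ).character g = (ρ.character g ^ 3 + 3 * ρ.character g * ρ.character (g * g) +
      2 * ρ.character (g * g * g)) / 6 := by
  have hmem : ∀ x, (m3 (ρ g) * pj V) x ∈ SymC V := by
    intro x
    rw [Module.End.mul_apply]
    exact map_symC ρ g ⟨x, rfl⟩
  have h1 : cuRep ρ g = (m3 (ρ g) * pj V).restrict (fun v _ => hmem v) := by
    apply LinearMap.ext
    intro w
    apply Subtype.ext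
    show m3 (ρ g) (w : T3 V) = m3 (ρ g) (pj V (w : T3 V))
    rw [pj_symC w.2]
  show LinearMap.trace ℂ (SymC V) (cuRep ρ g) = _
  rw [h1, trace_restrict, trace_m_pj, ← map_mul, ← map_mul]
  rfl

theorem pj_tri (v : V) : pj V (v ⊗ₜ[ℂ] (v ⊗ₜ[ℂ] v)) = v ⊗ₜ[ℂ] (v ⊗ₜ[ℂ] v) := by
  have h1 : c3 V (v ⊗ₜ[ℂ] (v ⊗ₜ[ℂ] v)) = v ⊗ₜ[ℂ] (v ⊗ₜ[ℂ] v) := rfl
  have h2 : s3 V (v ⊗ₜ[ℂ] (v ⊗ₜ[ℂ] v)) = v ⊗ₜ[ℂ] (v ⊗ₜ[ℂ] v) := rfl
  have h3 : (1 + c3 V + c3 V * c3 V) (v ⊗ₜ[ℂ] (v ⊗ₜ[ℂ] v)) = (3 : ℂ) • (v ⊗ₜ[ℂ] (v ⊗ₜ[ℂ] v)) := by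
    rw [LinearMap.add_apply, LinearMap.add_apply, Module.End.one_apply, Module.End.mul_apply, h1, h1]
    module
  have h4 : (1 + s3 V) (v ⊗ₜ[ℂ] (v ⊗ₜ[ℂ] v)) = (2 : ℂ) • (v ⊗ₜ[ℂ] (v ⊗ₜ[ℂ] v)) := by
    rw [LinearMap.add_apply, Module.End.one_apply, h2]
    module
  rw [pj, LinearMap.smul_apply, Module.End.mul_apply, h3, map_smul, h4, smul_smul, smul_smul]
  norm_num

/-- the symmetric tensor `v ⊗ v ⊗ v` -/
noncomputable def tri (v : V) : SymC V := ⟨v ⊗ₜ[ℂ] (v ⊗ₜ[ℂ] v), v ⊗ₜ[ℂ] (v ⊗ₜ[ℂ] v), pj_tri v⟩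

theorem cuRep_tri (ρ : Representation ℂ G V) (g : G) (v : V) : cuRep ρ g (tri v) = tri (ρ g v) :=
  Subtype.ext rfl

end rep

theorem isCharacter_cu_rep {G : Type u} [Group G] {V : Type*} [AddCommGroup V] [Module ℂ V]
    [FiniteDimensional ℂ V] (ρ : Representation ℂ G V) :
    IsCharacter G (fun g => (ρ.character g ^ 3 + 3 * ρ.character g * ρ.character (g * g) +
      2 * ρ.character (g * g * g)) / 6) := by
  have h1 : (cuRep ρ).character =
      fun g => (ρ.character g ^ 3 + 3 * ρ.character g * ρ.character (g * g) + 2 * ρ.character (g * g * g)) / 6 := by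
    funext g
    exact char_cuRep ρ g
  rw [← h1]
  exact isCharacter_of_rep (cuRep ρ)

theorem isCharacter_symCube {G : Type u} [Group G] {χ : G → ℂ} (hχ : IsCharacter G χ) :
    IsCharacter G (fun g => (χ g ^ 3 + 3 * χ g * χ (g * g) + 2 * χ (g * g * g)) / 6) := by
  obtain ⟨n, ρ, rfl⟩ := hχ
  exact isCharacter_cu_rep ρ

/-- **An invariant vector.** -/
theorem sum_ne_zero_cube {G : Type u} [Group G] [Fintype G] {V W : Type*} [AddCommGroup V] [Module ℂ V]
    [FiniteDimensional ℂ V] [AddCommGroup W] [Module ℂ W] [FiniteDimensional ℂ W] (ρ : Representation ℂ G V)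
    (σ : Representation ℂ G W) {X : Type v} [Fintype X] [MulAction G X] (a : X → V)
    (ha : ∀ (g : G) (y : X), ρ g (a y) = a (g • y)) (b : X → W) (hb : ∀ (g : G) (y : X), σ g (b y) = b (g • y))
    (φ : V →ₗ[ℂ] ℂ) (ψ : W →ₗ[ℂ] ℂ) (hne : ∑ y : X, φ (a y) ^ 3 * ψ (b y) ≠ 0) :
    ∑ g : G, (ρ.character g ^ 3 + 3 * ρ.character g * ρ.character (g * g) + 2 * ρ.character (g * g * g)) / 6 *
      σ.character g ≠ 0 := by
  let τ : Representation ℂ G (SymC V ⊗[ℂ] W) := Representation.tprod (cuRep ρ) σ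
  have h3 : Representation.character (V := SymC V ⊗[ℂ] W) τ = (cuRep ρ).character * σ.character :=
    Representation.char_tensor (cuRep ρ) σ
  let t : SymC V ⊗[ℂ] W := ∑ y : X, tri (a y) ⊗ₜ[ℂ] b y
  have ht : ∀ g : G, τ g t = t := by
    intro g
    rw [map_sum]
    refine Fintype.sum_equiv (MulAction.toPerm g) _ _ fun y => ?_
    show Representation.tprod (cuRep ρ) σ g (tri (a y) ⊗ₜ[ℂ] b y) = _
    rw [Representation.tprod_apply, TensorProduct.map_tmul, cuRep_tri, ha, hb]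
    rfl
  let μ : SymC V ⊗[ℂ] W →ₗ[ℂ] ℂ := TensorProduct.lift
    (((LinearMap.mul ℂ ℂ).compl₂ ψ).comp
      ((TensorProduct.lift ((LinearMap.mul ℂ ℂ).compl₁₂ φ
        (TensorProduct.lift ((LinearMap.mul ℂ ℂ).compl₁₂ φ φ)))).comp (SymC V).subtype))
  have h4 : μ t = ∑ y : X, φ (a y) ^ 3 * ψ (b y) := by
    rw [map_sum]
    refine Finset.sum_congr rfl fun y _ => ?_
    show φ (a y) * (φ (a y) * φ (a y)) * ψ (b y) = _
    ring
  have h5 : t ≠ 0 := by
    intro h0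
    apply hne
    rw [← h4, h0, map_zero]
  have h6 := Cfsg.Agent.H436.Krein.sum_char_ne_zero (U := SymC V ⊗[ℂ] W) τ ht h5
  rw [h3] at h6
  simpa only [Pi.mul_apply, char_cuRep] using h6

section krein

variable {G : Type u} [Group G] {X : Type v} [MulAction G X] {ι : Type} [Fintype ι] [DecidableEq ι]
variable {c : X → X → ι} {o : ι}

open Cfsg.Agent.H816.IMEig Cfsg.Agent.H816.IMEig.Col

/-- **The Krein parameter.** -/
theorem sum_ne_zero_of_krein_cube [Fintype G] [Fintype X] [DecidableEq X] (h : Col G X ι c o) {x₀ z₀ : X}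
    {t : ι → ι → ℕ} (ht : ∀ u w, tt c x₀ z₀ u w = t u w) {ω₁ ω : ι → ℂ}
    (hK : ∑ u, ((∑ w, t u w : ℕ) : ℂ) * (ω₁ u ^ 3 * ω u) ≠ 0) :
    ∑ g : G, ((h.sub ω₁).toRepresentation.character g ^ 3 +
      3 * (h.sub ω₁).toRepresentation.character g * (h.sub ω₁).toRepresentation.character (g * g) +
      2 * (h.sub ω₁).toRepresentation.character (g * g * g)) / 6 * (h.sub ω).toRepresentation.character g ≠ 0 := by
  classical
  refine sum_ne_zero_cube (h.sub ω₁).toRepresentation (h.sub ω).toRepresentation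
    (fun y => (⟨ee c ω₁ y, Submodule.subset_span ⟨y, rfl⟩⟩ : (h.sub ω₁).toSubmodule)) ?_
    (fun y => (⟨ee c ω y, Submodule.subset_span ⟨y, rfl⟩⟩ : (h.sub ω).toSubmodule)) ?_
    ((LinearMap.proj x₀).comp (h.sub ω₁).toSubmodule.subtype)
    ((LinearMap.proj x₀).comp (h.sub ω).toSubmodule.subtype) ?_
  · intro g y
    exact Subtype.ext (h.prep_ee ω₁ g y)
  · intro g y
    exact Subtype.ext (h.prep_ee ω g y)
  · have e : ∑ y : X, ω₁ (c x₀ y) ^ 3 * ω (c x₀ y) = ∑ u, ((∑ w, t u w : ℕ) : ℂ) * (ω₁ u ^ 3 * ω u) := by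
      have hk : ∀ u, ∑ w, t u w = kk c x₀ u := fun u => by
        rw [kk_eq_sum x₀ z₀ u]
        exact Finset.sum_congr rfl fun w _ => (ht u w).symm
      simp only [hk]
      have h5 : ∀ u, (kk c x₀ u : ℂ) * (ω₁ u ^ 3 * ω u) = ∑ z, if c x₀ z = u then ω₁ u ^ 3 * ω u else 0 := by
        intro u
        rw [← Finset.sum_filter, Finset.sum_const, nsmul_eq_mul]
        congr 1
        unfold kk
        rw [Nat.card_eq_fintype_card, Fintype.card_subtype]
      simp only [h5]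
      rw [Finset.sum_comm]
      refine Finset.sum_congr rfl fun z _ => ?_
      rw [Finset.sum_ite_eq]
      simp
    intro h0
    exact hK (e ▸ h0)

end krein

end Cfsg.Agent.H797.BR
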